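import Cfsg.Agent.G2Rec.Data.FASteps
import Cfsg.Agent.G2Rec.Data.FAEdges0
import Cfsg.Agent.G2Rec.Data.FAEdges1
import Cfsg.Agent.G2Rec.Data.FAEdges2
import Cfsg.Agent.G2Rec.Data.FAEdges3
import Cfsg.Agent.G2Rec.Data.FAEdges4
import Cfsg.Agent.G2Rec.Data.FAEdges5

set_option autoImplicit false
set_option maxRecDepth 20000

/-! Generated certificate of a coset enumeration for the recognition of `G₂(3)`. -/

namespace CfsgLib.G2Rec

open CfsgLib.MTwelveUnique CfsgLib.UFourType

noncomputable section

theorem fA_derived : fAT.Derived 6 := by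
  intro x hx
  interval_cases x
  exacts [fA_derived0, fA_derived1, fA_derived2, fA_derived3, fA_derived4, fA_derived5]

end

end CfsgLib.G2Rec
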