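import Cfsg.Agent.G2Rec.Data.FAData

set_option autoImplicit false
set_option maxRecDepth 20000
set_option Elab.async false

/-! Generated certificate of a coset enumeration for the recognition of `G₂(3)` (steps). -/

namespace CfsgLib.G2Rec

open CfsgLib.MTwelveUnique CfsgLib.UFourType

noncomputable section

theorem fA_tree : treeFacts fACert.F fACert.parN fACert.parX fACert.nT = true := by
  decide +kernel

theorem fA_steps0 : stepsOK (caseRels [2, 4, 7, 3]) mSub fACert.F fASteps0 3807 = true := by
  decide +kernel

theorem fA_len0 : fASteps0.length = 500 := by decide +kernel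

theorem fA_steps1 : stepsOK (caseRels [2, 4, 7, 3]) mSub fACert.F fASteps1 4307 = true := by
  decide +kernel

theorem fA_len1 : fASteps1.length = 500 := by decide +kernel

theorem fA_steps2 : stepsOK (caseRels [2, 4, 7, 3]) mSub fACert.F fASteps2 4807 = true := by
  decide +kernel

theorem fA_len2 : fASteps2.length = 500 := by decide +kernel

theorem fA_steps3 : stepsOK (caseRels [2, 4, 7, 3]) mSub fACert.F fASteps3 5307 = true := by
  decide +kernel

theorem fA_len3 : fASteps3.length = 500 := by decide +kernel

theorem fA_steps4 : stepsOK (caseRels [2, 4, 7, 3]) mSub fACert.F fASteps4 5807 = true := by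
  decide +kernel

theorem fA_len4 : fASteps4.length = 500 := by decide +kernel

theorem fA_steps5 : stepsOK (caseRels [2, 4, 7, 3]) mSub fACert.F fASteps5 6307 = true := by
  decide +kernel

theorem fA_len5 : fASteps5.length = 500 := by decide +kernel

theorem fA_steps6 : stepsOK (caseRels [2, 4, 7, 3]) mSub fACert.F fASteps6 6807 = true := by
  decide +kernel

theorem fA_len6 : fASteps6.length = 500 := by decide +kernel

theorem fA_steps7 : stepsOK (caseRels [2, 4, 7, 3]) mSub fACert.F fASteps7 7307 = true := by
  decide +kernel

theorem fA_len7 : fASteps7.length = 500 := by decide +kernel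

theorem fA_steps8 : stepsOK (caseRels [2, 4, 7, 3]) mSub fACert.F fASteps8 7807 = true := by
  decide +kernel

theorem fA_len8 : fASteps8.length = 500 := by decide +kernel

theorem fA_steps9 : stepsOK (caseRels [2, 4, 7, 3]) mSub fACert.F fASteps9 8307 = true := by
  decide +kernel

theorem fA_len9 : fASteps9.length = 500 := by decide +kernel

theorem fA_steps10 : stepsOK (caseRels [2, 4, 7, 3]) mSub fACert.F fASteps10 8807 = true := by
  decide +kernel

theorem fA_len10 : fASteps10.length = 500 := by decide +kernel

theorem fA_steps11 : stepsOK (caseRels [2, 4, 7, 3]) mSub fACert.F fASteps11 9307 = true := by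
  decide +kernel

theorem fA_len11 : fASteps11.length = 500 := by decide +kernel

theorem fA_steps12 : stepsOK (caseRels [2, 4, 7, 3]) mSub fACert.F fASteps12 9807 = true := by
  decide +kernel

theorem fA_len12 : fASteps12.length = 500 := by decide +kernel

theorem fA_steps13 : stepsOK (caseRels [2, 4, 7, 3]) mSub fACert.F fASteps13 10307 = true := by
  decide +kernel

theorem fA_len13 : fASteps13.length = 500 := by decide +kernel

theorem fA_steps14 : stepsOK (caseRels [2, 4, 7, 3]) mSub fACert.F fASteps14 10807 = true := by
  decide +kernel

theorem fA_len14 : fASteps14.length = 500 := by decide +kernel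

theorem fA_steps15 : stepsOK (caseRels [2, 4, 7, 3]) mSub fACert.F fASteps15 11307 = true := by
  decide +kernel

theorem fA_len15 : fASteps15.length = 500 := by decide +kernel

theorem fA_steps16 : stepsOK (caseRels [2, 4, 7, 3]) mSub fACert.F fASteps16 11807 = true := by
  decide +kernel

theorem fA_len16 : fASteps16.length = 500 := by decide +kernel

theorem fA_steps17 : stepsOK (caseRels [2, 4, 7, 3]) mSub fACert.F fASteps17 12307 = true := by
  decide +kernel

theorem fA_len17 : fASteps17.length = 500 := by decide +kernel

theorem fA_steps18 : stepsOK (caseRels [2, 4, 7, 3]) mSub fACert.F fASteps18 12807 = true := by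
  decide +kernel

theorem fA_len18 : fASteps18.length = 500 := by decide +kernel

theorem fA_steps19 : stepsOK (caseRels [2, 4, 7, 3]) mSub fACert.F fASteps19 13307 = true := by
  decide +kernel

theorem fA_len19 : fASteps19.length = 500 := by decide +kernel

theorem fA_steps20 : stepsOK (caseRels [2, 4, 7, 3]) mSub fACert.F fASteps20 13807 = true := by
  decide +kernel

theorem fA_len20 : fASteps20.length = 500 := by decide +kernel

theorem fA_steps21 : stepsOK (caseRels [2, 4, 7, 3]) mSub fACert.F fASteps21 14307 = true := by
  decide +kernel

theorem fA_len21 : fASteps21.length = 500 := by decide +kernel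

theorem fA_steps22 : stepsOK (caseRels [2, 4, 7, 3]) mSub fACert.F fASteps22 14807 = true := by
  decide +kernel

theorem fA_len22 : fASteps22.length = 500 := by decide +kernel

theorem fA_steps23 : stepsOK (caseRels [2, 4, 7, 3]) mSub fACert.F fASteps23 15307 = true := by
  decide +kernel

theorem fA_len23 : fASteps23.length = 500 := by decide +kernel

theorem fA_steps24 : stepsOK (caseRels [2, 4, 7, 3]) mSub fACert.F fASteps24 15807 = true := by
  decide +kernel

theorem fA_len24 : fASteps24.length = 500 := by decide +kernel

theorem fA_steps25 : stepsOK (caseRels [2, 4, 7, 3]) mSub fACert.F fASteps25 16307 = true := by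
  decide +kernel

theorem fA_len25 : fASteps25.length = 500 := by decide +kernel

theorem fA_steps26 : stepsOK (caseRels [2, 4, 7, 3]) mSub fACert.F fASteps26 16807 = true := by
  decide +kernel

theorem fA_len26 : fASteps26.length = 500 := by decide +kernel

theorem fA_steps27 : stepsOK (caseRels [2, 4, 7, 3]) mSub fACert.F fASteps27 17307 = true := by
  decide +kernel

theorem fA_len27 : fASteps27.length = 500 := by decide +kernel

theorem fA_steps28 : stepsOK (caseRels [2, 4, 7, 3]) mSub fACert.F fASteps28 17807 = true := by
  decide +kernel

theorem fA_len28 : fASteps28.length = 500 := by decide +kernel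

theorem fA_steps29 : stepsOK (caseRels [2, 4, 7, 3]) mSub fACert.F fASteps29 18307 = true := by
  decide +kernel

theorem fA_len29 : fASteps29.length = 500 := by decide +kernel

theorem fA_steps30 : stepsOK (caseRels [2, 4, 7, 3]) mSub fACert.F fASteps30 18807 = true := by
  decide +kernel

theorem fA_len30 : fASteps30.length = 500 := by decide +kernel

theorem fA_steps31 : stepsOK (caseRels [2, 4, 7, 3]) mSub fACert.F fASteps31 19307 = true := by
  decide +kernel

theorem fA_len31 : fASteps31.length = 500 := by decide +kernel

theorem fA_steps32 : stepsOK (caseRels [2, 4, 7, 3]) mSub fACert.F fASteps32 19807 = true := by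
  decide +kernel

theorem fA_len32 : fASteps32.length = 500 := by decide +kernel

theorem fA_steps33 : stepsOK (caseRels [2, 4, 7, 3]) mSub fACert.F fASteps33 20307 = true := by
  decide +kernel

theorem fA_len33 : fASteps33.length = 500 := by decide +kernel

theorem fA_steps34 : stepsOK (caseRels [2, 4, 7, 3]) mSub fACert.F fASteps34 20807 = true := by
  decide +kernel

theorem fA_len34 : fASteps34.length = 194 := by decide +kernel

theorem fA_ok : fACert.ok (caseRels [2, 4, 7, 3]) mSub = true := by
  rw [Cert.ok, fA_tree, Bool.true_and]
  show stepsOK (caseRels [2, 4, 7, 3]) mSub fACert.F (List.flatten _) 3807 = true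
  simp only [List.flatten_cons, List.flatten_nil, List.append_nil, stepsOK_append,
    fA_len0, fA_len1, fA_len2, fA_len3, fA_len4, fA_len5, fA_len6, fA_len7, fA_len8, fA_len9, fA_len10, fA_len11, fA_len12, fA_len13, fA_len14, fA_len15, fA_len16, fA_len17, fA_len18, fA_len19, fA_len20, fA_len21, fA_len22, fA_len23, fA_len24, fA_len25, fA_len26, fA_len27, fA_len28, fA_len29, fA_len30, fA_len31, fA_len32, fA_len33, fA_len34, Nat.reduceAdd,
    fA_steps0, fA_steps1, fA_steps2, fA_steps3, fA_steps4, fA_steps5, fA_steps6, fA_steps7, fA_steps8, fA_steps9, fA_steps10, fA_steps11, fA_steps12, fA_steps13, fA_steps14, fA_steps15, fA_steps16, fA_steps17, fA_steps18, fA_steps19, fA_steps20, fA_steps21, fA_steps22, fA_steps23, fA_steps24, fA_steps25, fA_steps26, fA_steps27, fA_steps28, fA_steps29, fA_steps30, fA_steps31, fA_steps32, fA_steps33, fA_steps34, Bool.and_self]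

end

end CfsgLib.G2Rec
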