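import Cfsg.Agent.G2Rec.Data.FBSteps
import Cfsg.Agent.G2Rec.Data.FBEdges0
import Cfsg.Agent.G2Rec.Data.FBEdges1
import Cfsg.Agent.G2Rec.Data.FBEdges2
import Cfsg.Agent.G2Rec.Data.FBEdges3
import Cfsg.Agent.G2Rec.Data.FBEdges4
import Cfsg.Agent.G2Rec.Data.FBEdges5

set_option autoImplicit false
set_option maxRecDepth 20000

/-! Generated certificate of a coset enumeration for the recognition of `G₂(3)`. -/

namespace CfsgLib.G2Rec

open CfsgLib.MTwelveUnique CfsgLib.UFourType

noncomputable section

theorem fB_derived : fBT.Derived 6 := by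
  intro x hx
  interval_cases x
  exacts [fB_derived0, fB_derived1, fB_derived2, fB_derived3, fB_derived4, fB_derived5]

end

end CfsgLib.G2Rec
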