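import Cfsg.Agent.G2Rec.Data.FBData

set_option autoImplicit false
set_option maxRecDepth 20000
set_option Elab.async false

/-! Generated certificate of a coset enumeration for the recognition of `G₂(3)` (steps). -/

namespace CfsgLib.G2Rec

open CfsgLib.MTwelveUnique CfsgLib.UFourType

noncomputable section

theorem fB_tree : treeFacts fBCert.F fBCert.parN fBCert.parX fBCert.nT = true := by
  decide +kernel

theorem fB_steps0 : stepsOK (caseRels [2, 6, 3]) mSub fBCert.F fBSteps0 17496 = true := by
  decide +kernel

theorem fB_len0 : fBSteps0.length = 500 := by decide +kernel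

theorem fB_steps1 : stepsOK (caseRels [2, 6, 3]) mSub fBCert.F fBSteps1 17996 = true := by
  decide +kernel

theorem fB_len1 : fBSteps1.length = 500 := by decide +kernel

theorem fB_steps2 : stepsOK (caseRels [2, 6, 3]) mSub fBCert.F fBSteps2 18496 = true := by
  decide +kernel

theorem fB_len2 : fBSteps2.length = 500 := by decide +kernel

theorem fB_steps3 : stepsOK (caseRels [2, 6, 3]) mSub fBCert.F fBSteps3 18996 = true := by
  decide +kernel

theorem fB_len3 : fBSteps3.length = 500 := by decide +kernel

theorem fB_steps4 : stepsOK (caseRels [2, 6, 3]) mSub fBCert.F fBSteps4 19496 = true := by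
  decide +kernel

theorem fB_len4 : fBSteps4.length = 500 := by decide +kernel

theorem fB_steps5 : stepsOK (caseRels [2, 6, 3]) mSub fBCert.F fBSteps5 19996 = true := by
  decide +kernel

theorem fB_len5 : fBSteps5.length = 500 := by decide +kernel

theorem fB_steps6 : stepsOK (caseRels [2, 6, 3]) mSub fBCert.F fBSteps6 20496 = true := by
  decide +kernel

theorem fB_len6 : fBSteps6.length = 500 := by decide +kernel

theorem fB_steps7 : stepsOK (caseRels [2, 6, 3]) mSub fBCert.F fBSteps7 20996 = true := by
  decide +kernel

theorem fB_len7 : fBSteps7.length = 500 := by decide +kernel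

theorem fB_steps8 : stepsOK (caseRels [2, 6, 3]) mSub fBCert.F fBSteps8 21496 = true := by
  decide +kernel

theorem fB_len8 : fBSteps8.length = 500 := by decide +kernel

theorem fB_steps9 : stepsOK (caseRels [2, 6, 3]) mSub fBCert.F fBSteps9 21996 = true := by
  decide +kernel

theorem fB_len9 : fBSteps9.length = 500 := by decide +kernel

theorem fB_steps10 : stepsOK (caseRels [2, 6, 3]) mSub fBCert.F fBSteps10 22496 = true := by
  decide +kernel

theorem fB_len10 : fBSteps10.length = 500 := by decide +kernel

theorem fB_steps11 : stepsOK (caseRels [2, 6, 3]) mSub fBCert.F fBSteps11 22996 = true := by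
  decide +kernel

theorem fB_len11 : fBSteps11.length = 500 := by decide +kernel

theorem fB_steps12 : stepsOK (caseRels [2, 6, 3]) mSub fBCert.F fBSteps12 23496 = true := by
  decide +kernel

theorem fB_len12 : fBSteps12.length = 500 := by decide +kernel

theorem fB_steps13 : stepsOK (caseRels [2, 6, 3]) mSub fBCert.F fBSteps13 23996 = true := by
  decide +kernel

theorem fB_len13 : fBSteps13.length = 500 := by decide +kernel

theorem fB_steps14 : stepsOK (caseRels [2, 6, 3]) mSub fBCert.F fBSteps14 24496 = true := by
  decide +kernel

theorem fB_len14 : fBSteps14.length = 500 := by decide +kernel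

theorem fB_steps15 : stepsOK (caseRels [2, 6, 3]) mSub fBCert.F fBSteps15 24996 = true := by
  decide +kernel

theorem fB_len15 : fBSteps15.length = 500 := by decide +kernel

theorem fB_steps16 : stepsOK (caseRels [2, 6, 3]) mSub fBCert.F fBSteps16 25496 = true := by
  decide +kernel

theorem fB_len16 : fBSteps16.length = 500 := by decide +kernel

theorem fB_steps17 : stepsOK (caseRels [2, 6, 3]) mSub fBCert.F fBSteps17 25996 = true := by
  decide +kernel

theorem fB_len17 : fBSteps17.length = 500 := by decide +kernel

theorem fB_steps18 : stepsOK (caseRels [2, 6, 3]) mSub fBCert.F fBSteps18 26496 = true := by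
  decide +kernel

theorem fB_len18 : fBSteps18.length = 500 := by decide +kernel

theorem fB_steps19 : stepsOK (caseRels [2, 6, 3]) mSub fBCert.F fBSteps19 26996 = true := by
  decide +kernel

theorem fB_len19 : fBSteps19.length = 500 := by decide +kernel

theorem fB_steps20 : stepsOK (caseRels [2, 6, 3]) mSub fBCert.F fBSteps20 27496 = true := by
  decide +kernel

theorem fB_len20 : fBSteps20.length = 500 := by decide +kernel

theorem fB_steps21 : stepsOK (caseRels [2, 6, 3]) mSub fBCert.F fBSteps21 27996 = true := by
  decide +kernel

theorem fB_len21 : fBSteps21.length = 500 := by decide +kernel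

theorem fB_steps22 : stepsOK (caseRels [2, 6, 3]) mSub fBCert.F fBSteps22 28496 = true := by
  decide +kernel

theorem fB_len22 : fBSteps22.length = 500 := by decide +kernel

theorem fB_steps23 : stepsOK (caseRels [2, 6, 3]) mSub fBCert.F fBSteps23 28996 = true := by
  decide +kernel

theorem fB_len23 : fBSteps23.length = 500 := by decide +kernel

theorem fB_steps24 : stepsOK (caseRels [2, 6, 3]) mSub fBCert.F fBSteps24 29496 = true := by
  decide +kernel

theorem fB_len24 : fBSteps24.length = 500 := by decide +kernel

theorem fB_steps25 : stepsOK (caseRels [2, 6, 3]) mSub fBCert.F fBSteps25 29996 = true := by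
  decide +kernel

theorem fB_len25 : fBSteps25.length = 500 := by decide +kernel

theorem fB_steps26 : stepsOK (caseRels [2, 6, 3]) mSub fBCert.F fBSteps26 30496 = true := by
  decide +kernel

theorem fB_len26 : fBSteps26.length = 500 := by decide +kernel

theorem fB_steps27 : stepsOK (caseRels [2, 6, 3]) mSub fBCert.F fBSteps27 30996 = true := by
  decide +kernel

theorem fB_len27 : fBSteps27.length = 500 := by decide +kernel

theorem fB_steps28 : stepsOK (caseRels [2, 6, 3]) mSub fBCert.F fBSteps28 31496 = true := by
  decide +kernel

theorem fB_len28 : fBSteps28.length = 500 := by decide +kernel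

theorem fB_steps29 : stepsOK (caseRels [2, 6, 3]) mSub fBCert.F fBSteps29 31996 = true := by
  decide +kernel

theorem fB_len29 : fBSteps29.length = 500 := by decide +kernel

theorem fB_steps30 : stepsOK (caseRels [2, 6, 3]) mSub fBCert.F fBSteps30 32496 = true := by
  decide +kernel

theorem fB_len30 : fBSteps30.length = 500 := by decide +kernel

theorem fB_steps31 : stepsOK (caseRels [2, 6, 3]) mSub fBCert.F fBSteps31 32996 = true := by
  decide +kernel

theorem fB_len31 : fBSteps31.length = 500 := by decide +kernel

theorem fB_steps32 : stepsOK (caseRels [2, 6, 3]) mSub fBCert.F fBSteps32 33496 = true := by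
  decide +kernel

theorem fB_len32 : fBSteps32.length = 500 := by decide +kernel

theorem fB_steps33 : stepsOK (caseRels [2, 6, 3]) mSub fBCert.F fBSteps33 33996 = true := by
  decide +kernel

theorem fB_len33 : fBSteps33.length = 500 := by decide +kernel

theorem fB_steps34 : stepsOK (caseRels [2, 6, 3]) mSub fBCert.F fBSteps34 34496 = true := by
  decide +kernel

theorem fB_len34 : fBSteps34.length = 500 := by decide +kernel

theorem fB_steps35 : stepsOK (caseRels [2, 6, 3]) mSub fBCert.F fBSteps35 34996 = true := by
  decide +kernel

theorem fB_len35 : fBSteps35.length = 500 := by decide +kernel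

theorem fB_steps36 : stepsOK (caseRels [2, 6, 3]) mSub fBCert.F fBSteps36 35496 = true := by
  decide +kernel

theorem fB_len36 : fBSteps36.length = 500 := by decide +kernel

theorem fB_steps37 : stepsOK (caseRels [2, 6, 3]) mSub fBCert.F fBSteps37 35996 = true := by
  decide +kernel

theorem fB_len37 : fBSteps37.length = 500 := by decide +kernel

theorem fB_steps38 : stepsOK (caseRels [2, 6, 3]) mSub fBCert.F fBSteps38 36496 = true := by
  decide +kernel

theorem fB_len38 : fBSteps38.length = 500 := by decide +kernel

theorem fB_steps39 : stepsOK (caseRels [2, 6, 3]) mSub fBCert.F fBSteps39 36996 = true := by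
  decide +kernel

theorem fB_len39 : fBSteps39.length = 500 := by decide +kernel

theorem fB_steps40 : stepsOK (caseRels [2, 6, 3]) mSub fBCert.F fBSteps40 37496 = true := by
  decide +kernel

theorem fB_len40 : fBSteps40.length = 500 := by decide +kernel

theorem fB_steps41 : stepsOK (caseRels [2, 6, 3]) mSub fBCert.F fBSteps41 37996 = true := by
  decide +kernel

theorem fB_len41 : fBSteps41.length = 500 := by decide +kernel

theorem fB_steps42 : stepsOK (caseRels [2, 6, 3]) mSub fBCert.F fBSteps42 38496 = true := by
  decide +kernel

theorem fB_len42 : fBSteps42.length = 500 := by decide +kernel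

theorem fB_steps43 : stepsOK (caseRels [2, 6, 3]) mSub fBCert.F fBSteps43 38996 = true := by
  decide +kernel

theorem fB_len43 : fBSteps43.length = 500 := by decide +kernel

theorem fB_steps44 : stepsOK (caseRels [2, 6, 3]) mSub fBCert.F fBSteps44 39496 = true := by
  decide +kernel

theorem fB_len44 : fBSteps44.length = 500 := by decide +kernel

theorem fB_steps45 : stepsOK (caseRels [2, 6, 3]) mSub fBCert.F fBSteps45 39996 = true := by
  decide +kernel

theorem fB_len45 : fBSteps45.length = 500 := by decide +kernel

theorem fB_steps46 : stepsOK (caseRels [2, 6, 3]) mSub fBCert.F fBSteps46 40496 = true := by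
  decide +kernel

theorem fB_len46 : fBSteps46.length = 500 := by decide +kernel

theorem fB_steps47 : stepsOK (caseRels [2, 6, 3]) mSub fBCert.F fBSteps47 40996 = true := by
  decide +kernel

theorem fB_len47 : fBSteps47.length = 500 := by decide +kernel

theorem fB_steps48 : stepsOK (caseRels [2, 6, 3]) mSub fBCert.F fBSteps48 41496 = true := by
  decide +kernel

theorem fB_len48 : fBSteps48.length = 500 := by decide +kernel

theorem fB_steps49 : stepsOK (caseRels [2, 6, 3]) mSub fBCert.F fBSteps49 41996 = true := by
  decide +kernel

theorem fB_len49 : fBSteps49.length = 500 := by decide +kernel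

theorem fB_steps50 : stepsOK (caseRels [2, 6, 3]) mSub fBCert.F fBSteps50 42496 = true := by
  decide +kernel

theorem fB_len50 : fBSteps50.length = 500 := by decide +kernel

theorem fB_steps51 : stepsOK (caseRels [2, 6, 3]) mSub fBCert.F fBSteps51 42996 = true := by
  decide +kernel

theorem fB_len51 : fBSteps51.length = 500 := by decide +kernel

theorem fB_steps52 : stepsOK (caseRels [2, 6, 3]) mSub fBCert.F fBSteps52 43496 = true := by
  decide +kernel

theorem fB_len52 : fBSteps52.length = 500 := by decide +kernel

theorem fB_steps53 : stepsOK (caseRels [2, 6, 3]) mSub fBCert.F fBSteps53 43996 = true := by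
  decide +kernel

theorem fB_len53 : fBSteps53.length = 500 := by decide +kernel

theorem fB_steps54 : stepsOK (caseRels [2, 6, 3]) mSub fBCert.F fBSteps54 44496 = true := by
  decide +kernel

theorem fB_len54 : fBSteps54.length = 500 := by decide +kernel

theorem fB_steps55 : stepsOK (caseRels [2, 6, 3]) mSub fBCert.F fBSteps55 44996 = true := by
  decide +kernel

theorem fB_len55 : fBSteps55.length = 500 := by decide +kernel

theorem fB_steps56 : stepsOK (caseRels [2, 6, 3]) mSub fBCert.F fBSteps56 45496 = true := by
  decide +kernel

theorem fB_len56 : fBSteps56.length = 500 := by decide +kernel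

theorem fB_steps57 : stepsOK (caseRels [2, 6, 3]) mSub fBCert.F fBSteps57 45996 = true := by
  decide +kernel

theorem fB_len57 : fBSteps57.length = 500 := by decide +kernel

theorem fB_steps58 : stepsOK (caseRels [2, 6, 3]) mSub fBCert.F fBSteps58 46496 = true := by
  decide +kernel

theorem fB_len58 : fBSteps58.length = 500 := by decide +kernel

theorem fB_steps59 : stepsOK (caseRels [2, 6, 3]) mSub fBCert.F fBSteps59 46996 = true := by
  decide +kernel

theorem fB_len59 : fBSteps59.length = 500 := by decide +kernel

theorem fB_steps60 : stepsOK (caseRels [2, 6, 3]) mSub fBCert.F fBSteps60 47496 = true := by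
  decide +kernel

theorem fB_len60 : fBSteps60.length = 500 := by decide +kernel

theorem fB_steps61 : stepsOK (caseRels [2, 6, 3]) mSub fBCert.F fBSteps61 47996 = true := by
  decide +kernel

theorem fB_len61 : fBSteps61.length = 500 := by decide +kernel

theorem fB_steps62 : stepsOK (caseRels [2, 6, 3]) mSub fBCert.F fBSteps62 48496 = true := by
  decide +kernel

theorem fB_len62 : fBSteps62.length = 500 := by decide +kernel

theorem fB_steps63 : stepsOK (caseRels [2, 6, 3]) mSub fBCert.F fBSteps63 48996 = true := by
  decide +kernel

theorem fB_len63 : fBSteps63.length = 500 := by decide +kernel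

theorem fB_steps64 : stepsOK (caseRels [2, 6, 3]) mSub fBCert.F fBSteps64 49496 = true := by
  decide +kernel

theorem fB_len64 : fBSteps64.length = 500 := by decide +kernel

theorem fB_steps65 : stepsOK (caseRels [2, 6, 3]) mSub fBCert.F fBSteps65 49996 = true := by
  decide +kernel

theorem fB_len65 : fBSteps65.length = 500 := by decide +kernel

theorem fB_steps66 : stepsOK (caseRels [2, 6, 3]) mSub fBCert.F fBSteps66 50496 = true := by
  decide +kernel

theorem fB_len66 : fBSteps66.length = 500 := by decide +kernel

theorem fB_steps67 : stepsOK (caseRels [2, 6, 3]) mSub fBCert.F fBSteps67 50996 = true := by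
  decide +kernel

theorem fB_len67 : fBSteps67.length = 500 := by decide +kernel

theorem fB_steps68 : stepsOK (caseRels [2, 6, 3]) mSub fBCert.F fBSteps68 51496 = true := by
  decide +kernel

theorem fB_len68 : fBSteps68.length = 500 := by decide +kernel

theorem fB_steps69 : stepsOK (caseRels [2, 6, 3]) mSub fBCert.F fBSteps69 51996 = true := by
  decide +kernel

theorem fB_len69 : fBSteps69.length = 500 := by decide +kernel

theorem fB_steps70 : stepsOK (caseRels [2, 6, 3]) mSub fBCert.F fBSteps70 52496 = true := by
  decide +kernel

theorem fB_len70 : fBSteps70.length = 500 := by decide +kernel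

theorem fB_steps71 : stepsOK (caseRels [2, 6, 3]) mSub fBCert.F fBSteps71 52996 = true := by
  decide +kernel

theorem fB_len71 : fBSteps71.length = 500 := by decide +kernel

theorem fB_steps72 : stepsOK (caseRels [2, 6, 3]) mSub fBCert.F fBSteps72 53496 = true := by
  decide +kernel

theorem fB_len72 : fBSteps72.length = 500 := by decide +kernel

theorem fB_steps73 : stepsOK (caseRels [2, 6, 3]) mSub fBCert.F fBSteps73 53996 = true := by
  decide +kernel

theorem fB_len73 : fBSteps73.length = 500 := by decide +kernel

theorem fB_steps74 : stepsOK (caseRels [2, 6, 3]) mSub fBCert.F fBSteps74 54496 = true := by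
  decide +kernel

theorem fB_len74 : fBSteps74.length = 500 := by decide +kernel

theorem fB_steps75 : stepsOK (caseRels [2, 6, 3]) mSub fBCert.F fBSteps75 54996 = true := by
  decide +kernel

theorem fB_len75 : fBSteps75.length = 500 := by decide +kernel

theorem fB_steps76 : stepsOK (caseRels [2, 6, 3]) mSub fBCert.F fBSteps76 55496 = true := by
  decide +kernel

theorem fB_len76 : fBSteps76.length = 500 := by decide +kernel

theorem fB_steps77 : stepsOK (caseRels [2, 6, 3]) mSub fBCert.F fBSteps77 55996 = true := by
  decide +kernel

theorem fB_len77 : fBSteps77.length = 500 := by decide +kernel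

theorem fB_steps78 : stepsOK (caseRels [2, 6, 3]) mSub fBCert.F fBSteps78 56496 = true := by
  decide +kernel

theorem fB_len78 : fBSteps78.length = 500 := by decide +kernel

theorem fB_steps79 : stepsOK (caseRels [2, 6, 3]) mSub fBCert.F fBSteps79 56996 = true := by
  decide +kernel

theorem fB_len79 : fBSteps79.length = 500 := by decide +kernel

theorem fB_steps80 : stepsOK (caseRels [2, 6, 3]) mSub fBCert.F fBSteps80 57496 = true := by
  decide +kernel

theorem fB_len80 : fBSteps80.length = 500 := by decide +kernel

theorem fB_steps81 : stepsOK (caseRels [2, 6, 3]) mSub fBCert.F fBSteps81 57996 = true := by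
  decide +kernel

theorem fB_len81 : fBSteps81.length = 500 := by decide +kernel

theorem fB_steps82 : stepsOK (caseRels [2, 6, 3]) mSub fBCert.F fBSteps82 58496 = true := by
  decide +kernel

theorem fB_len82 : fBSteps82.length = 500 := by decide +kernel

theorem fB_steps83 : stepsOK (caseRels [2, 6, 3]) mSub fBCert.F fBSteps83 58996 = true := by
  decide +kernel

theorem fB_len83 : fBSteps83.length = 500 := by decide +kernel

theorem fB_steps84 : stepsOK (caseRels [2, 6, 3]) mSub fBCert.F fBSteps84 59496 = true := by
  decide +kernel

theorem fB_len84 : fBSteps84.length = 500 := by decide +kernel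

theorem fB_steps85 : stepsOK (caseRels [2, 6, 3]) mSub fBCert.F fBSteps85 59996 = true := by
  decide +kernel

theorem fB_len85 : fBSteps85.length = 500 := by decide +kernel

theorem fB_steps86 : stepsOK (caseRels [2, 6, 3]) mSub fBCert.F fBSteps86 60496 = true := by
  decide +kernel

theorem fB_len86 : fBSteps86.length = 500 := by decide +kernel

theorem fB_steps87 : stepsOK (caseRels [2, 6, 3]) mSub fBCert.F fBSteps87 60996 = true := by
  decide +kernel

theorem fB_len87 : fBSteps87.length = 500 := by decide +kernel

theorem fB_steps88 : stepsOK (caseRels [2, 6, 3]) mSub fBCert.F fBSteps88 61496 = true := by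
  decide +kernel

theorem fB_len88 : fBSteps88.length = 500 := by decide +kernel

theorem fB_steps89 : stepsOK (caseRels [2, 6, 3]) mSub fBCert.F fBSteps89 61996 = true := by
  decide +kernel

theorem fB_len89 : fBSteps89.length = 500 := by decide +kernel

theorem fB_steps90 : stepsOK (caseRels [2, 6, 3]) mSub fBCert.F fBSteps90 62496 = true := by
  decide +kernel

theorem fB_len90 : fBSteps90.length = 500 := by decide +kernel

theorem fB_steps91 : stepsOK (caseRels [2, 6, 3]) mSub fBCert.F fBSteps91 62996 = true := by
  decide +kernel

theorem fB_len91 : fBSteps91.length = 500 := by decide +kernel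

theorem fB_steps92 : stepsOK (caseRels [2, 6, 3]) mSub fBCert.F fBSteps92 63496 = true := by
  decide +kernel

theorem fB_len92 : fBSteps92.length = 500 := by decide +kernel

theorem fB_steps93 : stepsOK (caseRels [2, 6, 3]) mSub fBCert.F fBSteps93 63996 = true := by
  decide +kernel

theorem fB_len93 : fBSteps93.length = 500 := by decide +kernel

theorem fB_steps94 : stepsOK (caseRels [2, 6, 3]) mSub fBCert.F fBSteps94 64496 = true := by
  decide +kernel

theorem fB_len94 : fBSteps94.length = 500 := by decide +kernel

theorem fB_steps95 : stepsOK (caseRels [2, 6, 3]) mSub fBCert.F fBSteps95 64996 = true := by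
  decide +kernel

theorem fB_len95 : fBSteps95.length = 500 := by decide +kernel

theorem fB_steps96 : stepsOK (caseRels [2, 6, 3]) mSub fBCert.F fBSteps96 65496 = true := by
  decide +kernel

theorem fB_len96 : fBSteps96.length = 500 := by decide +kernel

theorem fB_steps97 : stepsOK (caseRels [2, 6, 3]) mSub fBCert.F fBSteps97 65996 = true := by
  decide +kernel

theorem fB_len97 : fBSteps97.length = 500 := by decide +kernel

theorem fB_steps98 : stepsOK (caseRels [2, 6, 3]) mSub fBCert.F fBSteps98 66496 = true := by
  decide +kernel

theorem fB_len98 : fBSteps98.length = 500 := by decide +kernel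

theorem fB_steps99 : stepsOK (caseRels [2, 6, 3]) mSub fBCert.F fBSteps99 66996 = true := by
  decide +kernel

theorem fB_len99 : fBSteps99.length = 500 := by decide +kernel

theorem fB_steps100 : stepsOK (caseRels [2, 6, 3]) mSub fBCert.F fBSteps100 67496 = true := by
  decide +kernel

theorem fB_len100 : fBSteps100.length = 500 := by decide +kernel

theorem fB_steps101 : stepsOK (caseRels [2, 6, 3]) mSub fBCert.F fBSteps101 67996 = true := by
  decide +kernel

theorem fB_len101 : fBSteps101.length = 500 := by decide +kernel

theorem fB_steps102 : stepsOK (caseRels [2, 6, 3]) mSub fBCert.F fBSteps102 68496 = true := by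
  decide +kernel

theorem fB_len102 : fBSteps102.length = 500 := by decide +kernel

theorem fB_steps103 : stepsOK (caseRels [2, 6, 3]) mSub fBCert.F fBSteps103 68996 = true := by
  decide +kernel

theorem fB_len103 : fBSteps103.length = 500 := by decide +kernel

theorem fB_steps104 : stepsOK (caseRels [2, 6, 3]) mSub fBCert.F fBSteps104 69496 = true := by
  decide +kernel

theorem fB_len104 : fBSteps104.length = 500 := by decide +kernel

theorem fB_steps105 : stepsOK (caseRels [2, 6, 3]) mSub fBCert.F fBSteps105 69996 = true := by
  decide +kernel

theorem fB_len105 : fBSteps105.length = 500 := by decide +kernel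

theorem fB_steps106 : stepsOK (caseRels [2, 6, 3]) mSub fBCert.F fBSteps106 70496 = true := by
  decide +kernel

theorem fB_len106 : fBSteps106.length = 500 := by decide +kernel

theorem fB_steps107 : stepsOK (caseRels [2, 6, 3]) mSub fBCert.F fBSteps107 70996 = true := by
  decide +kernel

theorem fB_len107 : fBSteps107.length = 500 := by decide +kernel

theorem fB_steps108 : stepsOK (caseRels [2, 6, 3]) mSub fBCert.F fBSteps108 71496 = true := by
  decide +kernel

theorem fB_len108 : fBSteps108.length = 500 := by decide +kernel

theorem fB_steps109 : stepsOK (caseRels [2, 6, 3]) mSub fBCert.F fBSteps109 71996 = true := by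
  decide +kernel

theorem fB_len109 : fBSteps109.length = 500 := by decide +kernel

theorem fB_steps110 : stepsOK (caseRels [2, 6, 3]) mSub fBCert.F fBSteps110 72496 = true := by
  decide +kernel

theorem fB_len110 : fBSteps110.length = 500 := by decide +kernel

theorem fB_steps111 : stepsOK (caseRels [2, 6, 3]) mSub fBCert.F fBSteps111 72996 = true := by
  decide +kernel

theorem fB_len111 : fBSteps111.length = 500 := by decide +kernel

theorem fB_steps112 : stepsOK (caseRels [2, 6, 3]) mSub fBCert.F fBSteps112 73496 = true := by
  decide +kernel

theorem fB_len112 : fBSteps112.length = 500 := by decide +kernel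

theorem fB_steps113 : stepsOK (caseRels [2, 6, 3]) mSub fBCert.F fBSteps113 73996 = true := by
  decide +kernel

theorem fB_len113 : fBSteps113.length = 500 := by decide +kernel

theorem fB_steps114 : stepsOK (caseRels [2, 6, 3]) mSub fBCert.F fBSteps114 74496 = true := by
  decide +kernel

theorem fB_len114 : fBSteps114.length = 500 := by decide +kernel

theorem fB_steps115 : stepsOK (caseRels [2, 6, 3]) mSub fBCert.F fBSteps115 74996 = true := by
  decide +kernel

theorem fB_len115 : fBSteps115.length = 500 := by decide +kernel

theorem fB_steps116 : stepsOK (caseRels [2, 6, 3]) mSub fBCert.F fBSteps116 75496 = true := by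
  decide +kernel

theorem fB_len116 : fBSteps116.length = 500 := by decide +kernel

theorem fB_steps117 : stepsOK (caseRels [2, 6, 3]) mSub fBCert.F fBSteps117 75996 = true := by
  decide +kernel

theorem fB_len117 : fBSteps117.length = 500 := by decide +kernel

theorem fB_steps118 : stepsOK (caseRels [2, 6, 3]) mSub fBCert.F fBSteps118 76496 = true := by
  decide +kernel

theorem fB_len118 : fBSteps118.length = 500 := by decide +kernel

theorem fB_steps119 : stepsOK (caseRels [2, 6, 3]) mSub fBCert.F fBSteps119 76996 = true := by
  decide +kernel

theorem fB_len119 : fBSteps119.length = 500 := by decide +kernel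

theorem fB_steps120 : stepsOK (caseRels [2, 6, 3]) mSub fBCert.F fBSteps120 77496 = true := by
  decide +kernel

theorem fB_len120 : fBSteps120.length = 500 := by decide +kernel

theorem fB_steps121 : stepsOK (caseRels [2, 6, 3]) mSub fBCert.F fBSteps121 77996 = true := by
  decide +kernel

theorem fB_len121 : fBSteps121.length = 357 := by decide +kernel

theorem fB_ok : fBCert.ok (caseRels [2, 6, 3]) mSub = true := by
  rw [Cert.ok, fB_tree, Bool.true_and]
  show stepsOK (caseRels [2, 6, 3]) mSub fBCert.F (List.flatten _) 17496 = true
  simp only [List.flatten_cons, List.flatten_nil, List.append_nil, stepsOK_append,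
    fB_len0, fB_len1, fB_len2, fB_len3, fB_len4, fB_len5, fB_len6, fB_len7, fB_len8, fB_len9, fB_len10, fB_len11, fB_len12, fB_len13, fB_len14, fB_len15, fB_len16, fB_len17, fB_len18, fB_len19, fB_len20, fB_len21, fB_len22, fB_len23, fB_len24, fB_len25, fB_len26, fB_len27, fB_len28, fB_len29, fB_len30, fB_len31, fB_len32, fB_len33, fB_len34, fB_len35, fB_len36, fB_len37, fB_len38, fB_len39, fB_len40, fB_len41, fB_len42, fB_len43, fB_len44, fB_len45, fB_len46, fB_len47, fB_len48, fB_len49, fB_len50, fB_len51, fB_len52, fB_len53, fB_len54, fB_len55, fB_len56, fB_len57, fB_len58, fB_len59, fB_len60, fB_len61, fB_len62, fB_len63, fB_len64, fB_len65, fB_len66, fB_len67, fB_len68, fB_len69, fB_len70, fB_len71, fB_len72, fB_len73, fB_len74, fB_len75, fB_len76, fB_len77, fB_len78, fB_len79, fB_len80, fB_len81, fB_len82, fB_len83, fB_len84, fB_len85, fB_len86, fB_len87, fB_len88, fB_len89, fB_len90, fB_len91, fB_len92, fB_len93, fB_len94, fB_len95, fB_len96, fB_len97, fB_len98, fB_len99, fB_len100, fB_len101, fB_len102, fB_len103, fB_len104, fB_len105, fB_len106, fB_len107, fB_len108, fB_len109, fB_len110,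 fB_len111, fB_len112, fB_len113, fB_len114, fB_len115, fB_len116, fB_len117, fB_len118, fB_len119, fB_len120, fB_len121, Nat.reduceAdd,
    fB_steps0, fB_steps1, fB_steps2, fB_steps3, fB_steps4, fB_steps5, fB_steps6, fB_steps7, fB_steps8, fB_steps9, fB_steps10, fB_steps11, fB_steps12, fB_steps13, fB_steps14, fB_steps15, fB_steps16, fB_steps17, fB_steps18, fB_steps19, fB_steps20, fB_steps21, fB_steps22, fB_steps23, fB_steps24, fB_steps25, fB_steps26, fB_steps27, fB_steps28, fB_steps29, fB_steps30, fB_steps31, fB_steps32, fB_steps33, fB_steps34, fB_steps35, fB_steps36, fB_steps37, fB_steps38, fB_steps39, fB_steps40, fB_steps41, fB_steps42, fB_steps43, fB_steps44, fB_steps45, fB_steps46, fB_steps47, fB_steps48, fB_steps49, fB_steps50, fB_steps51, fB_steps52, fB_steps53, fB_steps54, fB_steps55, fB_steps56, fB_steps57, fB_steps58, fB_steps59, fB_steps60, fB_steps61, fB_steps62, fB_steps63, fB_steps64, fB_steps65, fB_steps66, fB_steps67, fB_steps68, fB_steps69, fB_steps70, fB_steps71, fB_steps72, fB_steps73, fB_steps74, fB_steps75, fB_steps76, fB_steps77, fB_steps78, fB_steps79, fB_steps80, fB_steps81,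 fB_steps82, fB_steps83, fB_steps84, fB_steps85, fB_steps86, fB_steps87, fB_steps88, fB_steps89, fB_steps90, fB_steps91, fB_steps92, fB_steps93, fB_steps94, fB_steps95, fB_steps96, fB_steps97, fB_steps98, fB_steps99, fB_steps100, fB_steps101, fB_steps102, fB_steps103, fB_steps104, fB_steps105, fB_steps106, fB_steps107, fB_steps108, fB_steps109, fB_steps110, fB_steps111, fB_steps112, fB_steps113, fB_steps114, fB_steps115, fB_steps116, fB_steps117, fB_steps118, fB_steps119, fB_steps120, fB_steps121, Bool.and_self]

end

end CfsgLib.G2Rec
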