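import Cfsg.Agent.G2Rec.Data.FDData

set_option autoImplicit false
set_option maxRecDepth 20000
set_option Elab.async false

/-! Generated certificate of a coset enumeration for the recognition of `G₂(3)` (steps). -/

namespace CfsgLib.G2Rec

open CfsgLib.MTwelveUnique CfsgLib.UFourType

noncomputable section

theorem fD_tree : treeFacts fDCert.F fDCert.parN fDCert.parX fDCert.nT = true := by
  decide +kernel

theorem fD_steps0 : stepsOK (splitRels [5] [4, 1, 5, 7] 0) mSub fDCert.F fDSteps0 6160 = true := by
  decide +kernel

theorem fD_len0 : fDSteps0.length = 500 := by decide +kernel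

theorem fD_steps1 : stepsOK (splitRels [5] [4, 1, 5, 7] 0) mSub fDCert.F fDSteps1 6660 = true := by
  decide +kernel

theorem fD_len1 : fDSteps1.length = 500 := by decide +kernel

theorem fD_steps2 : stepsOK (splitRels [5] [4, 1, 5, 7] 0) mSub fDCert.F fDSteps2 7160 = true := by
  decide +kernel

theorem fD_len2 : fDSteps2.length = 500 := by decide +kernel

theorem fD_steps3 : stepsOK (splitRels [5] [4, 1, 5, 7] 0) mSub fDCert.F fDSteps3 7660 = true := by
  decide +kernel

theorem fD_len3 : fDSteps3.length = 500 := by decide +kernel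

theorem fD_steps4 : stepsOK (splitRels [5] [4, 1, 5, 7] 0) mSub fDCert.F fDSteps4 8160 = true := by
  decide +kernel

theorem fD_len4 : fDSteps4.length = 500 := by decide +kernel

theorem fD_steps5 : stepsOK (splitRels [5] [4, 1, 5, 7] 0) mSub fDCert.F fDSteps5 8660 = true := by
  decide +kernel

theorem fD_len5 : fDSteps5.length = 500 := by decide +kernel

theorem fD_steps6 : stepsOK (splitRels [5] [4, 1, 5, 7] 0) mSub fDCert.F fDSteps6 9160 = true := by
  decide +kernel

theorem fD_len6 : fDSteps6.length = 500 := by decide +kernel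

theorem fD_steps7 : stepsOK (splitRels [5] [4, 1, 5, 7] 0) mSub fDCert.F fDSteps7 9660 = true := by
  decide +kernel

theorem fD_len7 : fDSteps7.length = 500 := by decide +kernel

theorem fD_steps8 : stepsOK (splitRels [5] [4, 1, 5, 7] 0) mSub fDCert.F fDSteps8 10160 = true := by
  decide +kernel

theorem fD_len8 : fDSteps8.length = 500 := by decide +kernel

theorem fD_steps9 : stepsOK (splitRels [5] [4, 1, 5, 7] 0) mSub fDCert.F fDSteps9 10660 = true := by
  decide +kernel

theorem fD_len9 : fDSteps9.length = 500 := by decide +kernel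

theorem fD_steps10 : stepsOK (splitRels [5] [4, 1, 5, 7] 0) mSub fDCert.F fDSteps10 11160 = true := by
  decide +kernel

theorem fD_len10 : fDSteps10.length = 500 := by decide +kernel

theorem fD_steps11 : stepsOK (splitRels [5] [4, 1, 5, 7] 0) mSub fDCert.F fDSteps11 11660 = true := by
  decide +kernel

theorem fD_len11 : fDSteps11.length = 500 := by decide +kernel

theorem fD_steps12 : stepsOK (splitRels [5] [4, 1, 5, 7] 0) mSub fDCert.F fDSteps12 12160 = true := by
  decide +kernel

theorem fD_len12 : fDSteps12.length = 500 := by decide +kernel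

theorem fD_steps13 : stepsOK (splitRels [5] [4, 1, 5, 7] 0) mSub fDCert.F fDSteps13 12660 = true := by
  decide +kernel

theorem fD_len13 : fDSteps13.length = 500 := by decide +kernel

theorem fD_steps14 : stepsOK (splitRels [5] [4, 1, 5, 7] 0) mSub fDCert.F fDSteps14 13160 = true := by
  decide +kernel

theorem fD_len14 : fDSteps14.length = 500 := by decide +kernel

theorem fD_steps15 : stepsOK (splitRels [5] [4, 1, 5, 7] 0) mSub fDCert.F fDSteps15 13660 = true := by
  decide +kernel

theorem fD_len15 : fDSteps15.length = 500 := by decide +kernel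

theorem fD_steps16 : stepsOK (splitRels [5] [4, 1, 5, 7] 0) mSub fDCert.F fDSteps16 14160 = true := by
  decide +kernel

theorem fD_len16 : fDSteps16.length = 500 := by decide +kernel

theorem fD_steps17 : stepsOK (splitRels [5] [4, 1, 5, 7] 0) mSub fDCert.F fDSteps17 14660 = true := by
  decide +kernel

theorem fD_len17 : fDSteps17.length = 500 := by decide +kernel

theorem fD_steps18 : stepsOK (splitRels [5] [4, 1, 5, 7] 0) mSub fDCert.F fDSteps18 15160 = true := by
  decide +kernel

theorem fD_len18 : fDSteps18.length = 500 := by decide +kernel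

theorem fD_steps19 : stepsOK (splitRels [5] [4, 1, 5, 7] 0) mSub fDCert.F fDSteps19 15660 = true := by
  decide +kernel

theorem fD_len19 : fDSteps19.length = 500 := by decide +kernel

theorem fD_steps20 : stepsOK (splitRels [5] [4, 1, 5, 7] 0) mSub fDCert.F fDSteps20 16160 = true := by
  decide +kernel

theorem fD_len20 : fDSteps20.length = 500 := by decide +kernel

theorem fD_steps21 : stepsOK (splitRels [5] [4, 1, 5, 7] 0) mSub fDCert.F fDSteps21 16660 = true := by
  decide +kernel

theorem fD_len21 : fDSteps21.length = 500 := by decide +kernel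

theorem fD_steps22 : stepsOK (splitRels [5] [4, 1, 5, 7] 0) mSub fDCert.F fDSteps22 17160 = true := by
  decide +kernel

theorem fD_len22 : fDSteps22.length = 500 := by decide +kernel

theorem fD_steps23 : stepsOK (splitRels [5] [4, 1, 5, 7] 0) mSub fDCert.F fDSteps23 17660 = true := by
  decide +kernel

theorem fD_len23 : fDSteps23.length = 500 := by decide +kernel

theorem fD_steps24 : stepsOK (splitRels [5] [4, 1, 5, 7] 0) mSub fDCert.F fDSteps24 18160 = true := by
  decide +kernel

theorem fD_len24 : fDSteps24.length = 500 := by decide +kernel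

theorem fD_steps25 : stepsOK (splitRels [5] [4, 1, 5, 7] 0) mSub fDCert.F fDSteps25 18660 = true := by
  decide +kernel

theorem fD_len25 : fDSteps25.length = 500 := by decide +kernel

theorem fD_steps26 : stepsOK (splitRels [5] [4, 1, 5, 7] 0) mSub fDCert.F fDSteps26 19160 = true := by
  decide +kernel

theorem fD_len26 : fDSteps26.length = 500 := by decide +kernel

theorem fD_steps27 : stepsOK (splitRels [5] [4, 1, 5, 7] 0) mSub fDCert.F fDSteps27 19660 = true := by
  decide +kernel

theorem fD_len27 : fDSteps27.length = 500 := by decide +kernel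

theorem fD_steps28 : stepsOK (splitRels [5] [4, 1, 5, 7] 0) mSub fDCert.F fDSteps28 20160 = true := by
  decide +kernel

theorem fD_len28 : fDSteps28.length = 500 := by decide +kernel

theorem fD_steps29 : stepsOK (splitRels [5] [4, 1, 5, 7] 0) mSub fDCert.F fDSteps29 20660 = true := by
  decide +kernel

theorem fD_len29 : fDSteps29.length = 500 := by decide +kernel

theorem fD_steps30 : stepsOK (splitRels [5] [4, 1, 5, 7] 0) mSub fDCert.F fDSteps30 21160 = true := by
  decide +kernel

theorem fD_len30 : fDSteps30.length = 500 := by decide +kernel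

theorem fD_steps31 : stepsOK (splitRels [5] [4, 1, 5, 7] 0) mSub fDCert.F fDSteps31 21660 = true := by
  decide +kernel

theorem fD_len31 : fDSteps31.length = 500 := by decide +kernel

theorem fD_steps32 : stepsOK (splitRels [5] [4, 1, 5, 7] 0) mSub fDCert.F fDSteps32 22160 = true := by
  decide +kernel

theorem fD_len32 : fDSteps32.length = 500 := by decide +kernel

theorem fD_steps33 : stepsOK (splitRels [5] [4, 1, 5, 7] 0) mSub fDCert.F fDSteps33 22660 = true := by
  decide +kernel

theorem fD_len33 : fDSteps33.length = 500 := by decide +kernel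

theorem fD_steps34 : stepsOK (splitRels [5] [4, 1, 5, 7] 0) mSub fDCert.F fDSteps34 23160 = true := by
  decide +kernel

theorem fD_len34 : fDSteps34.length = 500 := by decide +kernel

theorem fD_steps35 : stepsOK (splitRels [5] [4, 1, 5, 7] 0) mSub fDCert.F fDSteps35 23660 = true := by
  decide +kernel

theorem fD_len35 : fDSteps35.length = 500 := by decide +kernel

theorem fD_steps36 : stepsOK (splitRels [5] [4, 1, 5, 7] 0) mSub fDCert.F fDSteps36 24160 = true := by
  decide +kernel

theorem fD_len36 : fDSteps36.length = 500 := by decide +kernel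

theorem fD_steps37 : stepsOK (splitRels [5] [4, 1, 5, 7] 0) mSub fDCert.F fDSteps37 24660 = true := by
  decide +kernel

theorem fD_len37 : fDSteps37.length = 500 := by decide +kernel

theorem fD_steps38 : stepsOK (splitRels [5] [4, 1, 5, 7] 0) mSub fDCert.F fDSteps38 25160 = true := by
  decide +kernel

theorem fD_len38 : fDSteps38.length = 500 := by decide +kernel

theorem fD_steps39 : stepsOK (splitRels [5] [4, 1, 5, 7] 0) mSub fDCert.F fDSteps39 25660 = true := by
  decide +kernel

theorem fD_len39 : fDSteps39.length = 500 := by decide +kernel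

theorem fD_steps40 : stepsOK (splitRels [5] [4, 1, 5, 7] 0) mSub fDCert.F fDSteps40 26160 = true := by
  decide +kernel

theorem fD_len40 : fDSteps40.length = 500 := by decide +kernel

theorem fD_steps41 : stepsOK (splitRels [5] [4, 1, 5, 7] 0) mSub fDCert.F fDSteps41 26660 = true := by
  decide +kernel

theorem fD_len41 : fDSteps41.length = 500 := by decide +kernel

theorem fD_steps42 : stepsOK (splitRels [5] [4, 1, 5, 7] 0) mSub fDCert.F fDSteps42 27160 = true := by
  decide +kernel

theorem fD_len42 : fDSteps42.length = 500 := by decide +kernel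

theorem fD_steps43 : stepsOK (splitRels [5] [4, 1, 5, 7] 0) mSub fDCert.F fDSteps43 27660 = true := by
  decide +kernel

theorem fD_len43 : fDSteps43.length = 500 := by decide +kernel

theorem fD_steps44 : stepsOK (splitRels [5] [4, 1, 5, 7] 0) mSub fDCert.F fDSteps44 28160 = true := by
  decide +kernel

theorem fD_len44 : fDSteps44.length = 500 := by decide +kernel

theorem fD_steps45 : stepsOK (splitRels [5] [4, 1, 5, 7] 0) mSub fDCert.F fDSteps45 28660 = true := by
  decide +kernel

theorem fD_len45 : fDSteps45.length = 500 := by decide +kernel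

theorem fD_steps46 : stepsOK (splitRels [5] [4, 1, 5, 7] 0) mSub fDCert.F fDSteps46 29160 = true := by
  decide +kernel

theorem fD_len46 : fDSteps46.length = 500 := by decide +kernel

theorem fD_steps47 : stepsOK (splitRels [5] [4, 1, 5, 7] 0) mSub fDCert.F fDSteps47 29660 = true := by
  decide +kernel

theorem fD_len47 : fDSteps47.length = 47 := by decide +kernel

theorem fD_ok : fDCert.ok (splitRels [5] [4, 1, 5, 7] 0) mSub = true := by
  rw [Cert.ok, fD_tree, Bool.true_and]
  show stepsOK (splitRels [5] [4, 1, 5, 7] 0) mSub fDCert.F (List.flatten _) 6160 = true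
  simp only [List.flatten_cons, List.flatten_nil, List.append_nil, stepsOK_append,
    fD_len0, fD_len1, fD_len2, fD_len3, fD_len4, fD_len5, fD_len6, fD_len7, fD_len8, fD_len9, fD_len10, fD_len11, fD_len12, fD_len13, fD_len14, fD_len15, fD_len16, fD_len17, fD_len18, fD_len19, fD_len20, fD_len21, fD_len22, fD_len23, fD_len24, fD_len25, fD_len26, fD_len27, fD_len28, fD_len29, fD_len30, fD_len31, fD_len32, fD_len33, fD_len34, fD_len35, fD_len36, fD_len37, fD_len38, fD_len39, fD_len40, fD_len41, fD_len42, fD_len43, fD_len44, fD_len45, fD_len46, fD_len47, Nat.reduceAdd,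
    fD_steps0, fD_steps1, fD_steps2, fD_steps3, fD_steps4, fD_steps5, fD_steps6, fD_steps7, fD_steps8, fD_steps9, fD_steps10, fD_steps11, fD_steps12, fD_steps13, fD_steps14, fD_steps15, fD_steps16, fD_steps17, fD_steps18, fD_steps19, fD_steps20, fD_steps21, fD_steps22, fD_steps23, fD_steps24, fD_steps25, fD_steps26, fD_steps27, fD_steps28, fD_steps29, fD_steps30, fD_steps31, fD_steps32, fD_steps33, fD_steps34, fD_steps35, fD_steps36, fD_steps37, fD_steps38, fD_steps39, fD_steps40, fD_steps41, fD_steps42, fD_steps43, fD_steps44, fD_steps45, fD_steps46, fD_steps47, Bool.and_self]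

end

end CfsgLib.G2Rec
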