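import Cfsg.Agent.G2Rec.Data.FEData

set_option autoImplicit false
set_option maxRecDepth 20000
set_option Elab.async false

/-! Generated certificate of a coset enumeration for the recognition of `G₂(3)` (steps). -/

namespace CfsgLib.G2Rec

open CfsgLib.MTwelveUnique CfsgLib.UFourType

noncomputable section

theorem fE_tree : treeFacts fECert.F fECert.parN fECert.parX fECert.nT = true := by
  decide +kernel

theorem fE_steps0 : stepsOK (splitRels [2, 4, 6, 3] [4, 6] 0) mSub fECert.F fESteps0 4394 = true := by
  decide +kernel

theorem fE_len0 : fESteps0.length = 500 := by decide +kernel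

theorem fE_steps1 : stepsOK (splitRels [2, 4, 6, 3] [4, 6] 0) mSub fECert.F fESteps1 4894 = true := by
  decide +kernel

theorem fE_len1 : fESteps1.length = 500 := by decide +kernel

theorem fE_steps2 : stepsOK (splitRels [2, 4, 6, 3] [4, 6] 0) mSub fECert.F fESteps2 5394 = true := by
  decide +kernel

theorem fE_len2 : fESteps2.length = 500 := by decide +kernel

theorem fE_steps3 : stepsOK (splitRels [2, 4, 6, 3] [4, 6] 0) mSub fECert.F fESteps3 5894 = true := by
  decide +kernel

theorem fE_len3 : fESteps3.length = 500 := by decide +kernel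

theorem fE_steps4 : stepsOK (splitRels [2, 4, 6, 3] [4, 6] 0) mSub fECert.F fESteps4 6394 = true := by
  decide +kernel

theorem fE_len4 : fESteps4.length = 500 := by decide +kernel

theorem fE_steps5 : stepsOK (splitRels [2, 4, 6, 3] [4, 6] 0) mSub fECert.F fESteps5 6894 = true := by
  decide +kernel

theorem fE_len5 : fESteps5.length = 500 := by decide +kernel

theorem fE_steps6 : stepsOK (splitRels [2, 4, 6, 3] [4, 6] 0) mSub fECert.F fESteps6 7394 = true := by
  decide +kernel

theorem fE_len6 : fESteps6.length = 500 := by decide +kernel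

theorem fE_steps7 : stepsOK (splitRels [2, 4, 6, 3] [4, 6] 0) mSub fECert.F fESteps7 7894 = true := by
  decide +kernel

theorem fE_len7 : fESteps7.length = 500 := by decide +kernel

theorem fE_steps8 : stepsOK (splitRels [2, 4, 6, 3] [4, 6] 0) mSub fECert.F fESteps8 8394 = true := by
  decide +kernel

theorem fE_len8 : fESteps8.length = 500 := by decide +kernel

theorem fE_steps9 : stepsOK (splitRels [2, 4, 6, 3] [4, 6] 0) mSub fECert.F fESteps9 8894 = true := by
  decide +kernel

theorem fE_len9 : fESteps9.length = 500 := by decide +kernel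

theorem fE_steps10 : stepsOK (splitRels [2, 4, 6, 3] [4, 6] 0) mSub fECert.F fESteps10 9394 = true := by
  decide +kernel

theorem fE_len10 : fESteps10.length = 500 := by decide +kernel

theorem fE_steps11 : stepsOK (splitRels [2, 4, 6, 3] [4, 6] 0) mSub fECert.F fESteps11 9894 = true := by
  decide +kernel

theorem fE_len11 : fESteps11.length = 500 := by decide +kernel

theorem fE_steps12 : stepsOK (splitRels [2, 4, 6, 3] [4, 6] 0) mSub fECert.F fESteps12 10394 = true := by
  decide +kernel

theorem fE_len12 : fESteps12.length = 500 := by decide +kernel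

theorem fE_steps13 : stepsOK (splitRels [2, 4, 6, 3] [4, 6] 0) mSub fECert.F fESteps13 10894 = true := by
  decide +kernel

theorem fE_len13 : fESteps13.length = 500 := by decide +kernel

theorem fE_steps14 : stepsOK (splitRels [2, 4, 6, 3] [4, 6] 0) mSub fECert.F fESteps14 11394 = true := by
  decide +kernel

theorem fE_len14 : fESteps14.length = 500 := by decide +kernel

theorem fE_steps15 : stepsOK (splitRels [2, 4, 6, 3] [4, 6] 0) mSub fECert.F fESteps15 11894 = true := by
  decide +kernel

theorem fE_len15 : fESteps15.length = 500 := by decide +kernel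

theorem fE_steps16 : stepsOK (splitRels [2, 4, 6, 3] [4, 6] 0) mSub fECert.F fESteps16 12394 = true := by
  decide +kernel

theorem fE_len16 : fESteps16.length = 500 := by decide +kernel

theorem fE_steps17 : stepsOK (splitRels [2, 4, 6, 3] [4, 6] 0) mSub fECert.F fESteps17 12894 = true := by
  decide +kernel

theorem fE_len17 : fESteps17.length = 500 := by decide +kernel

theorem fE_steps18 : stepsOK (splitRels [2, 4, 6, 3] [4, 6] 0) mSub fECert.F fESteps18 13394 = true := by
  decide +kernel

theorem fE_len18 : fESteps18.length = 500 := by decide +kernel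

theorem fE_steps19 : stepsOK (splitRels [2, 4, 6, 3] [4, 6] 0) mSub fECert.F fESteps19 13894 = true := by
  decide +kernel

theorem fE_len19 : fESteps19.length = 500 := by decide +kernel

theorem fE_steps20 : stepsOK (splitRels [2, 4, 6, 3] [4, 6] 0) mSub fECert.F fESteps20 14394 = true := by
  decide +kernel

theorem fE_len20 : fESteps20.length = 500 := by decide +kernel

theorem fE_steps21 : stepsOK (splitRels [2, 4, 6, 3] [4, 6] 0) mSub fECert.F fESteps21 14894 = true := by
  decide +kernel

theorem fE_len21 : fESteps21.length = 500 := by decide +kernel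

theorem fE_steps22 : stepsOK (splitRels [2, 4, 6, 3] [4, 6] 0) mSub fECert.F fESteps22 15394 = true := by
  decide +kernel

theorem fE_len22 : fESteps22.length = 500 := by decide +kernel

theorem fE_steps23 : stepsOK (splitRels [2, 4, 6, 3] [4, 6] 0) mSub fECert.F fESteps23 15894 = true := by
  decide +kernel

theorem fE_len23 : fESteps23.length = 500 := by decide +kernel

theorem fE_steps24 : stepsOK (splitRels [2, 4, 6, 3] [4, 6] 0) mSub fECert.F fESteps24 16394 = true := by
  decide +kernel

theorem fE_len24 : fESteps24.length = 500 := by decide +kernel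

theorem fE_steps25 : stepsOK (splitRels [2, 4, 6, 3] [4, 6] 0) mSub fECert.F fESteps25 16894 = true := by
  decide +kernel

theorem fE_len25 : fESteps25.length = 500 := by decide +kernel

theorem fE_steps26 : stepsOK (splitRels [2, 4, 6, 3] [4, 6] 0) mSub fECert.F fESteps26 17394 = true := by
  decide +kernel

theorem fE_len26 : fESteps26.length = 500 := by decide +kernel

theorem fE_steps27 : stepsOK (splitRels [2, 4, 6, 3] [4, 6] 0) mSub fECert.F fESteps27 17894 = true := by
  decide +kernel

theorem fE_len27 : fESteps27.length = 500 := by decide +kernel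

theorem fE_steps28 : stepsOK (splitRels [2, 4, 6, 3] [4, 6] 0) mSub fECert.F fESteps28 18394 = true := by
  decide +kernel

theorem fE_len28 : fESteps28.length = 500 := by decide +kernel

theorem fE_steps29 : stepsOK (splitRels [2, 4, 6, 3] [4, 6] 0) mSub fECert.F fESteps29 18894 = true := by
  decide +kernel

theorem fE_len29 : fESteps29.length = 500 := by decide +kernel

theorem fE_steps30 : stepsOK (splitRels [2, 4, 6, 3] [4, 6] 0) mSub fECert.F fESteps30 19394 = true := by
  decide +kernel

theorem fE_len30 : fESteps30.length = 500 := by decide +kernel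

theorem fE_steps31 : stepsOK (splitRels [2, 4, 6, 3] [4, 6] 0) mSub fECert.F fESteps31 19894 = true := by
  decide +kernel

theorem fE_len31 : fESteps31.length = 500 := by decide +kernel

theorem fE_steps32 : stepsOK (splitRels [2, 4, 6, 3] [4, 6] 0) mSub fECert.F fESteps32 20394 = true := by
  decide +kernel

theorem fE_len32 : fESteps32.length = 500 := by decide +kernel

theorem fE_steps33 : stepsOK (splitRels [2, 4, 6, 3] [4, 6] 0) mSub fECert.F fESteps33 20894 = true := by
  decide +kernel

theorem fE_len33 : fESteps33.length = 500 := by decide +kernel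

theorem fE_steps34 : stepsOK (splitRels [2, 4, 6, 3] [4, 6] 0) mSub fECert.F fESteps34 21394 = true := by
  decide +kernel

theorem fE_len34 : fESteps34.length = 500 := by decide +kernel

theorem fE_steps35 : stepsOK (splitRels [2, 4, 6, 3] [4, 6] 0) mSub fECert.F fESteps35 21894 = true := by
  decide +kernel

theorem fE_len35 : fESteps35.length = 500 := by decide +kernel

theorem fE_steps36 : stepsOK (splitRels [2, 4, 6, 3] [4, 6] 0) mSub fECert.F fESteps36 22394 = true := by
  decide +kernel

theorem fE_len36 : fESteps36.length = 500 := by decide +kernel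

theorem fE_steps37 : stepsOK (splitRels [2, 4, 6, 3] [4, 6] 0) mSub fECert.F fESteps37 22894 = true := by
  decide +kernel

theorem fE_len37 : fESteps37.length = 357 := by decide +kernel

theorem fE_ok : fECert.ok (splitRels [2, 4, 6, 3] [4, 6] 0) mSub = true := by
  rw [Cert.ok, fE_tree, Bool.true_and]
  show stepsOK (splitRels [2, 4, 6, 3] [4, 6] 0) mSub fECert.F (List.flatten _) 4394 = true
  simp only [List.flatten_cons, List.flatten_nil, List.append_nil, stepsOK_append,
    fE_len0, fE_len1, fE_len2, fE_len3, fE_len4, fE_len5, fE_len6, fE_len7, fE_len8, fE_len9, fE_len10, fE_len11, fE_len12, fE_len13, fE_len14, fE_len15, fE_len16, fE_len17, fE_len18, fE_len19, fE_len20, fE_len21, fE_len22, fE_len23, fE_len24, fE_len25, fE_len26, fE_len27, fE_len28, fE_len29, fE_len30, fE_len31, fE_len32, fE_len33, fE_len34, fE_len35, fE_len36, fE_len37, Nat.reduceAdd,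
    fE_steps0, fE_steps1, fE_steps2, fE_steps3, fE_steps4, fE_steps5, fE_steps6, fE_steps7, fE_steps8, fE_steps9, fE_steps10, fE_steps11, fE_steps12, fE_steps13, fE_steps14, fE_steps15, fE_steps16, fE_steps17, fE_steps18, fE_steps19, fE_steps20, fE_steps21, fE_steps22, fE_steps23, fE_steps24, fE_steps25, fE_steps26, fE_steps27, fE_steps28, fE_steps29, fE_steps30, fE_steps31, fE_steps32, fE_steps33, fE_steps34, fE_steps35, fE_steps36, fE_steps37, Bool.and_self]

end

end CfsgLib.G2Rec
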