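import Cfsg.Agent.G2Rec.Data.HSteps
import Cfsg.Agent.G2Rec.Data.HEdges0
import Cfsg.Agent.G2Rec.Data.HEdges1
import Cfsg.Agent.G2Rec.Data.HEdges2
import Cfsg.Agent.G2Rec.Data.HEdges3
import Cfsg.Agent.G2Rec.Data.HEdges4

set_option autoImplicit false
set_option maxRecDepth 20000

/-! Generated certificate of a coset enumeration for the recognition of `G₂(3)`. -/

namespace CfsgLib.G2Rec

open CfsgLib.MTwelveUnique CfsgLib.UFourType

noncomputable section

theorem h_derived : hT.Derived 5 := by
  intro x hx
  interval_cases x
  exacts [h_derived0, h_derived1, h_derived2, h_derived3, h_derived4]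

end

end CfsgLib.G2Rec
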