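import Cfsg.Agent.G2Rec.Data.HData

set_option autoImplicit false
set_option maxRecDepth 20000
set_option Elab.async false

/-! Generated certificate of a coset enumeration for the recognition of `G₂(3)` (steps). -/

namespace CfsgLib.G2Rec

open CfsgLib.MTwelveUnique CfsgLib.UFourType

noncomputable section

theorem h_tree : treeFacts hCert.F hCert.parN hCert.parX hCert.nT = true := by
  decide +kernel

theorem h_steps0 : stepsOK hRels [] hCert.F hSteps0 575 = true := by
  decide +kernel

theorem h_len0 : hSteps0.length = 500 := by decide +kernel

theorem h_steps1 : stepsOK hRels [] hCert.F hSteps1 1075 = true := by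
  decide +kernel

theorem h_len1 : hSteps1.length = 500 := by decide +kernel

theorem h_steps2 : stepsOK hRels [] hCert.F hSteps2 1575 = true := by
  decide +kernel

theorem h_len2 : hSteps2.length = 500 := by decide +kernel

theorem h_steps3 : stepsOK hRels [] hCert.F hSteps3 2075 = true := by
  decide +kernel

theorem h_len3 : hSteps3.length = 500 := by decide +kernel

theorem h_steps4 : stepsOK hRels [] hCert.F hSteps4 2575 = true := by
  decide +kernel

theorem h_len4 : hSteps4.length = 305 := by decide +kernel

theorem h_ok : hCert.ok hRels [] = true := by
  rw [Cert.ok, h_tree, Bool.true_and]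
  show stepsOK hRels [] hCert.F (List.flatten _) 575 = true
  simp only [List.flatten_cons, List.flatten_nil, List.append_nil, stepsOK_append,
    h_len0, h_len1, h_len2, h_len3, h_len4, Nat.reduceAdd,
    h_steps0, h_steps1, h_steps2, h_steps3, h_steps4, Bool.and_self]

end

end CfsgLib.G2Rec
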