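import Cfsg.Agent.G2Rec.Data.MData

set_option autoImplicit false
set_option maxRecDepth 20000
set_option Elab.async false

/-! Generated certificate of a coset enumeration for the recognition of `G₂(3)` (steps). -/

namespace CfsgLib.G2Rec

open CfsgLib.MTwelveUnique CfsgLib.UFourType

noncomputable section

theorem m_tree : treeFacts mCert.F mCert.parN mCert.parX mCert.nT = true := by
  decide +kernel

theorem m_steps0 : stepsOK mRels [] mCert.F mSteps0 3334 = true := by
  decide +kernel

theorem m_len0 : mSteps0.length = 500 := by decide +kernel

theorem m_steps1 : stepsOK mRels [] mCert.F mSteps1 3834 = true := by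
  decide +kernel

theorem m_len1 : mSteps1.length = 500 := by decide +kernel

theorem m_steps2 : stepsOK mRels [] mCert.F mSteps2 4334 = true := by
  decide +kernel

theorem m_len2 : mSteps2.length = 500 := by decide +kernel

theorem m_steps3 : stepsOK mRels [] mCert.F mSteps3 4834 = true := by
  decide +kernel

theorem m_len3 : mSteps3.length = 500 := by decide +kernel

theorem m_steps4 : stepsOK mRels [] mCert.F mSteps4 5334 = true := by
  decide +kernel

theorem m_len4 : mSteps4.length = 500 := by decide +kernel

theorem m_steps5 : stepsOK mRels [] mCert.F mSteps5 5834 = true := by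
  decide +kernel

theorem m_len5 : mSteps5.length = 500 := by decide +kernel

theorem m_steps6 : stepsOK mRels [] mCert.F mSteps6 6334 = true := by
  decide +kernel

theorem m_len6 : mSteps6.length = 500 := by decide +kernel

theorem m_steps7 : stepsOK mRels [] mCert.F mSteps7 6834 = true := by
  decide +kernel

theorem m_len7 : mSteps7.length = 500 := by decide +kernel

theorem m_steps8 : stepsOK mRels [] mCert.F mSteps8 7334 = true := by
  decide +kernel

theorem m_len8 : mSteps8.length = 500 := by decide +kernel

theorem m_steps9 : stepsOK mRels [] mCert.F mSteps9 7834 = true := by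
  decide +kernel

theorem m_len9 : mSteps9.length = 500 := by decide +kernel

theorem m_steps10 : stepsOK mRels [] mCert.F mSteps10 8334 = true := by
  decide +kernel

theorem m_len10 : mSteps10.length = 500 := by decide +kernel

theorem m_steps11 : stepsOK mRels [] mCert.F mSteps11 8834 = true := by
  decide +kernel

theorem m_len11 : mSteps11.length = 500 := by decide +kernel

theorem m_steps12 : stepsOK mRels [] mCert.F mSteps12 9334 = true := by
  decide +kernel

theorem m_len12 : mSteps12.length = 500 := by decide +kernel

theorem m_steps13 : stepsOK mRels [] mCert.F mSteps13 9834 = true := by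
  decide +kernel

theorem m_len13 : mSteps13.length = 260 := by decide +kernel

theorem m_ok : mCert.ok mRels [] = true := by
  rw [Cert.ok, m_tree, Bool.true_and]
  show stepsOK mRels [] mCert.F (List.flatten _) 3334 = true
  simp only [List.flatten_cons, List.flatten_nil, List.append_nil, stepsOK_append,
    m_len0, m_len1, m_len2, m_len3, m_len4, m_len5, m_len6, m_len7, m_len8, m_len9, m_len10, m_len11, m_len12, m_len13, Nat.reduceAdd,
    m_steps0, m_steps1, m_steps2, m_steps3, m_steps4, m_steps5, m_steps6, m_steps7, m_steps8, m_steps9, m_steps10, m_steps11, m_steps12, m_steps13, Bool.and_self]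

end

end CfsgLib.G2Rec
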